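import Cfsg.Agent.H553.HT.RowSpU
import Cfsg.Agent.H205.HT.Seven

/-!
# S4933, the field `psp` of `OddRows` (helper553)
-/

set_option autoImplicit false

namespace Cfsg.Agent.H553.HT

open Cfsg Cfsg.Agent.H316.HT

/-- **the row `PSp_2m(q)`, `p` odd, cross characteristic, nonabelian Sylow subgroups** -/
theorem row_psp : ∀ (p : ℕ) [Fact p.Prime] (F : Type) [Field F] [Fintype F] (m : ℕ) [IsSimpleGroup (PSp m F)], p ≠ 2 →
    2 ≤ m → ¬ p ∣ Fintype.card F → ¬ Cfsg.Agent.H892.HT.Ab p (PSp m F) → Row p (PSp m F) := by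
  intro p _ F _ _ m _ hp2 hm hpF hab
  exact row_psp_uni hp2 hm hpF hab fun c hc0 ho h1 h2 h3 M hM =>
    Cfsg.Agent.H205.HT.seven_sp F hp2 hc0 ho h1 h2 h3 hM

end Cfsg.Agent.H553.HT
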