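import Cfsg.Agent.H553.HT.RowSp
import Cfsg.Agent.H139.HT.LinFin

/-!
# S4933, the row `PSp_2m(q)`, `p` odd: only the unitary box is left (helper553)
-/

set_option autoImplicit false

open Subgroup Module

namespace Cfsg.Agent.H553.HT

open Cfsg Cfsg.Agent.H316.HT Cfsg.Agent.H720.HT Cfsg.Agent.H487.HT Cfsg.Agent.H477.HC Cfsg.Agent.H139.HT
open Cfsg.Agent.H477.HC.CForm

/-- **the unitary box** (M7): `ord_p(q) = 2 c`, weight `W = m / c`, `p ∣ W + 1` -/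
def MSeven (p : ℕ) (F : Type) [Field F] (m : ℕ) : Prop :=
  ∀ c, 0 < c → orderOf ((Nat.card F : ℕ) : ZMod p) = 2 * c → p ≤ m / c → m / c < p ^ 2 → p ∣ m / c + 1 →
    ∀ M : Ideal AlgInt, IsPModular p M → ∃ χ : IrrCharacter (spF F m).iso, χ ∈ principalBlock M (spF F m).iso ∧
      1 ≤ vd p (χ : (spF F m).iso → ℂ) ∧ vd p (χ : (spF F m).iso → ℂ) ≤ 2 ∧
      (m / c < 2 * p → vd p (χ : (spF F m).iso → ℂ) = 1) ∧ H745.HT.PInv p (spF F m) (χ : (spF F m).iso → ℂ)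

variable {p : ℕ} [hp : Fact p.Prime] {F : Type} [Field F] [Fintype F] {m : ℕ}

/-- **the row from the unitary box** -/
theorem row_psp_uni (hp2 : p ≠ 2) (hm : 2 ≤ m) (hpF : ¬ p ∣ Fintype.card F)
    (hab : ¬ Cfsg.Agent.H892.HT.Ab p (PSp m F)) (h7 : MSeven p F m) : Row p (PSp m F) := by
  have hpc : ¬ p ∣ Nat.card F := by rwa [Nat.card_eq_fintype_card]
  refine row_psp_of hp2 hm hpF hab (fun f hf hodd h1 h2 h3 M hM => ?_) fun c hc0 hc h1 h2 h3 M hM => ?_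
  · exact spF_fin hp2 hM hpc hf hodd h3 h1 (by rwa [← sq])
  · obtain ⟨χ, k1, k2, k3, k4, k5⟩ := h7 c hc0 hc h1 h2 h3 M hM
    exact ⟨χ, k1, k2, bd_le k3 k4, k5⟩

end Cfsg.Agent.H553.HT
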